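import Cfsg.Agent.BaseTwo.Primitive

/-!
Chief factors of groups of odd order have local solutions by two vectors, in every characteristic.
-/

set_option autoImplicit false
set_option maxHeartbeats 1000000

universe u

namespace Cfsg.Agent.BaseOdd

open BaseTwo

section OddSystems

variable {K : Type*} [Field K] {V A Ω : Type*} [AddCommGroup V] [Module K V] [Group A] [DistribMulAction A V]
  [AddCommGroup Ω] [DistribMulAction A Ω] [Nontrivial V] [Finite A] [Group.IsSolvable A] [Finite Ω] [Finite K]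

omit [Group.IsSolvable A] in
theorem exists_good {r : ℕ} [Fact r.Prime] (hr : r ≠ 2) {m : ℕ} {G : Type*} [Group G] [Finite G]
    [DistribMulAction G (Fin m → ZMod r)] (hG : Odd (Nat.card G)) (hdvd : r ∣ Nat.card K - 1) :
    ∃ c : (Fin m → ZMod r) → K, Good r r m G c := by
  obtain ⟨g, hg0, hg⟩ := exists_gen (K := K)
  by_cases hγ : g ^ r = 1
  · exact ⟨_, good_odd_one hr hG⟩
  · exact ⟨_, good_odd_two hr g hg0 hγ⟩

theorem solvable_odd {r : ℕ} [Fact r.Prime] (hr : r ≠ 2) (S : PS r r K V A Ω) [Nontrivial Ω]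
    (hexp : ∀ v : Ω, r • v = 0) (hpow : ∀ v, S.op v ^ r = 1) (hA : Odd (Nat.card A)) : S.Solvable := by
  obtain ⟨ω, hω, hω1⟩ := S.exists_omega
  have hd := root_dvd (Fact.out : r.Prime) hω hω1
  obtain ⟨m, ⟨F⟩⟩ : ∃ m, Nonempty (Frame S m PUnit.{1}) := S.exists_frame_split hω hω1 hexp hpow
  refine F.solvable_split (cast_ne_of_dvd (Fact.out : r.Prime) hd) fun x hx hl hgen => ?_
  letI := F.stabAction hx hl hgen
  exact exists_good hr (hA.of_dvd_nat (Subgroup.card_subgroup_dvd_card _)) hd

end OddSystems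

open BaseTwo.Setting

variable {K V : Type*} {G : Type u} [Field K] [AddCommGroup V] [Module K V] [Group G] [DistribMulAction G V]
  [Finite G] [Group.IsSolvable G] [Finite K] [Nontrivial V] {T : Setting K V G} {D : Subgroup G}

/-- Every chief factor has a local solution. -/
theorem exists_local (hD : T.Chief D) (hA : Odd (Nat.card G)) : T.Local D := by
  obtain ⟨r, hrp, hr⟩ := Chief.exists_prime hD
  have := Fact.mk hrp
  have hr2 : r ≠ 2 := by
    rintro rfl
    obtain ⟨d, hd, hdB⟩ := Set.exists_of_ssubset hD.lt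
    have hc : Nat.Coprime (orderOf d) 2 := (hA.of_dvd_nat (orderOf_dvd_natCard d)).coprime_two_right
    obtain ⟨k, hk⟩ := exists_pow_eq_self_of_coprime hc.symm
    apply hdB
    show d ∈ T.B
    rw [← hk]
    exact pow_mem (hr d hd) k
  have hN : ∀ q : K, q ^ r = 1 → q ^ (r * (r - 1) / 2) = 1 := fun q hq => by
    obtain ⟨o, ho⟩ := hrp.odd_of_ne_two hr2
    rw [show r * (r - 1) / 2 = r * o by
      rw [show r - 1 = 2 * o by omega, mul_left_comm, Nat.mul_div_cancel_left _ two_pos], pow_mul, hq, one_pow]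
  refine Chief.local_of hD hrp.ne_zero hr (fun ε => ε = 1) rfl (fun d hd => ?_) ?_
    (fun g ε h => by rw [h, map_one]) fun S hexp hop _ => solvable_odd hr2 S hexp (fun v => ?_) hA
  · obtain ⟨k, hk, e⟩ := Chief.exists_normal hD hrp hr (fun q hq => ⟨1, by rw [hN q hq, one_pow]⟩) d hd
    exact ⟨k, 1, hk, rfl, by rw [e, one_smul]⟩
  · rintro c q _ _ _ - hq rfl rfl rfl h
    rw [hN q hq, mul_one, mul_one, mul_one] at h
    exact h
  · obtain ⟨ε, rfl, e⟩ := hop v
    rw [e, one_smul]

end Cfsg.Agent.BaseOdd
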