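import Cfsg.Agent.BaseOdd.Local
import Cfsg.Agent.BaseOdd.Colour
import Cfsg.Agent.BaseThree.Reduce
import Cfsg.Agent.BaseTwo.Reduce

/-!
Two vectors for completely reducible groups of odd order.
-/

set_option autoImplicit false
set_option maxHeartbeats 1000000

universe u v

namespace Cfsg.Agent.BaseOdd

open BaseTwo BaseTwo.Reduce
open BaseThree (exists_exponent)

/-- A pair whose common stabiliser acts trivially. -/
def GoodPair (H : Type*) {W : Type*} [Group H] [AddCommGroup W] [DistribMulAction H W] (T : Fin 2 → W) : Prop :=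
  ∀ h : H, h • T = T → ∀ w : W, h • w = w

/-- An element of odd order whose square acts trivially acts trivially. -/
theorem smul_of_sq {H W : Type*} [Group H] [AddCommGroup W] [DistribMulAction H W] {h : H}
    (hodd : Odd (Nat.card H)) (h2 : ∀ w : W, h • h • w = w) (w : W) : h • w = w := by
  obtain ⟨k, hk⟩ := exists_pow_eq_self_of_coprime (x := h) (n := 2)
    (hodd.of_dvd_nat (orderOf_dvd_natCard h)).coprime_two_left
  have h3 : ∀ k : ℕ, ((h ^ 2) ^ k) • w = w := by
    intro k
    induction k with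
    | zero => rw [pow_zero, one_smul]
    | succ k ih => rw [pow_succ, mul_smul, pow_two, mul_smul, h2, ← pow_two, ih]
  rw [← hk]; exact h3 k

/-- Two good pairs in different orbits. -/
theorem two_orbits {H W : Type*} [Group H] [AddCommGroup W] [DistribMulAction H W] [Nontrivial W]
    (hodd : Odd (Nat.card H)) {T : Fin 2 → W} (hT : GoodPair H T) :
    ∃ P : Fin 2 → Fin 2 → W, (∀ k, GoodPair H (P k)) ∧ ∀ (h : H) k l, h • P k = P l → k = l := by
  obtain ⟨a, b, hne, hgood⟩ : ∃ a b : W, a ≠ b ∧ ∀ h : H, h • a = a → h • b = b → ∀ w : W, h • w = w := by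
    by_cases h : T 0 = T 1
    · by_cases h0 : T 0 = 0
      · obtain ⟨e, he⟩ := exists_ne (0 : W)
        refine ⟨e, 0, he, fun g _ _ => hT g (funext fun i => ?_)⟩
        fin_cases i
        · show g • T 0 = T 0; rw [h0, smul_zero]
        · show g • T 1 = T 1; rw [← h, h0, smul_zero]
      · refine ⟨T 0, 0, h0, fun g hg _ => hT g (funext fun i => ?_)⟩
        fin_cases i
        · exact hg
        · show g • T 1 = T 1; rw [← h]; exact hg
    · refine ⟨T 0, T 1, h, fun g h0 h1 => hT g (funext fun i => ?_)⟩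
      fin_cases i
      exacts [h0, h1]
  have hswap : ∀ h : H, h • a = b → h • b = a → False := fun h e1 e2 => by
    have hfix : ∀ w : W, h • h • w = w := fun w => by
      rw [← mul_smul]
      exact hgood (h * h) (by rw [mul_smul, e1, e2]) (by rw [mul_smul, e2, e1]) w
    exact hne ((smul_of_sq hodd hfix a).symm.trans e1)
  refine ⟨![![a, b], ![b, a]], fun k h hk => ?_, fun h k l hk => ?_⟩
  · fin_cases k
    · exact hgood h (congrFun hk 0) (congrFun hk 1)
    · exact hgood h (congrFun hk 1) (congrFun hk 0)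
  · fin_cases k <;> fin_cases l
    · rfl
    · exact (hswap h (congrFun hk 0) (congrFun hk 1)).elim
    · exact (hswap h (congrFun hk 1) (congrFun hk 0)).elim
    · rfl

section Cases

variable {V : Type v} [AddCommGroup V] [Finite V] {G : Type u} [Group G] [DistribMulAction G V] [Finite G]

/-- The primitive case. -/
theorem primitive2 [Group.IsSolvable G] [Nontrivial V] (hodd : Odd (Nat.card G)) (hf : ∀ g : G, (∀ v : V, g • v = v) → g = 1)
    (hfield : ∀ B : Subgroup G, B.Normal → (∀ a ∈ B, ∀ b ∈ B, a * b = b * a) → IsField (ringOf V B)) :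
    ∃ T : Fin 2 → V, GoodPair G T := by
  obtain ⟨B, ⟨hBn, hBc⟩, hmax⟩ := Set.Finite.exists_maximal
    (Set.toFinite {B : Subgroup G | B.Normal ∧ ∀ a ∈ B, ∀ b ∈ B, a * b = b * a})
    ⟨⊥, inferInstance, fun a ha b hb => by rw [Subgroup.mem_bot.1 ha, Subgroup.mem_bot.1 hb]⟩
  letI : Field (ringOf V B) := (hfield B hBn hBc).toField
  haveI : Finite (AddMonoid.End V) := Finite.of_injective _ DFunLike.coe_injective
  let T : Setting (ringOf V B) V G :=
    { σ := conj hBn
      semi := fun g c z => conj_smul hBn g c z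
      B := B
      normal := hBn
      comm := hBc
      maxi := fun N hN hc hle => le_antisymm (hmax ⟨hN, hc⟩ hle) hle
      scalar := fun b hb => ⟨⟨_, Subring.subset_closure ⟨b, hb, rfl⟩⟩, fun v => rfl⟩
      refl_of_cent := fun g hg => RingEquiv.ext fun x => Subtype.ext (by
        show ρ V G g * x.1 * ρ V G g⁻¹ = x.1
        have h : ρ V G g * x.1 = x.1 * ρ V G g := by
          obtain ⟨x, hx⟩ := x
          induction hx using Subring.closure_induction with
          | mem z hz => obtain ⟨c, hc, rfl⟩ := hz; show ρ V G g * ρ V G c = ρ V G c * ρ V G g; rw [← map_mul, ← map_mul, hg c hc]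
          | zero => rw [mul_zero, zero_mul]
          | one => rw [mul_one, one_mul]
          | add s t _ _ hs ht => simp only at hs ht ⊢; rw [mul_add, add_mul, hs, ht]
          | neg s _ hs => simp only at hs ⊢; rw [mul_neg, neg_mul, hs]
          | mul s t _ _ hs ht => simp only at hs ht ⊢; rw [← mul_assoc, hs, mul_assoc, ht, mul_assoc]
        rw [h, mul_assoc, ← map_mul, mul_inv_cancel, map_one, mul_one])
      faithful := hf }
  obtain ⟨x, y, h⟩ := T.exists_base_of_local fun _ hD => exists_local hD hodd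
  refine ⟨![x, y], fun g hg w => ?_⟩
  rw [h g (congrFun hg 0) (congrFun hg 1), one_smul]

end Cases

/-- Two vectors whose common stabiliser acts trivially. -/
theorem exists_pair_same : ∀ (n : ℕ) (V : Type v) [AddCommGroup V] [Finite V] (G : Type v)
    [Group G] [Finite G] [Group.IsSolvable G] [DistribMulAction G V],
    Odd (Nat.card G) → (∀ U : AddSubgroup V, (∀ g : G, ∀ u ∈ U, g • u ∈ U) →
      ∃ W : AddSubgroup V, (∀ g : G, ∀ u ∈ W, g • u ∈ W) ∧ U ⊓ W = ⊥ ∧ U ⊔ W = ⊤) →
    Nat.card V = n → ∃ T : Fin 2 → V, GoodPair G T := by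
  intro n
  induction n using Nat.strong_induction_on with
  | _ n ih =>
  intro V _ _ G _ _ _ _ hodd hcr hn
  classical
  rcases subsingleton_or_nontrivial V with hV | hV
  · exact ⟨0, fun g _ v => Subsingleton.elim _ _⟩
  by_cases hirr : ∀ U : AddSubgroup V, (∀ g : G, ∀ u ∈ U, g • u ∈ U) → U = ⊥ ∨ U = ⊤
  swap
  · push_neg at hirr
    obtain ⟨U, hU, hU0, hU1⟩ := hirr
    obtain ⟨W, hW, hinf, hsup⟩ := hcr U hU
    have hW0 : W ≠ ⊤ := fun h => hU0 (by rwa [h, inf_top_eq] at hinf)
    have key : ∀ S : AddSubgroup V, (∀ g : G, ∀ u ∈ S, g • u ∈ S) → S ≠ ⊤ →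
        ∃ T : Fin 2 → V, (∀ i, T i ∈ S) ∧ ∀ g : G, g • T = T → ∀ v ∈ S, g • v = v := by
      intro S hS hne
      letI : DistribMulAction G S :=
        { smul := fun g s => ⟨g • s.1, hS g s.1 s.2⟩
          one_smul := fun s => Subtype.ext (one_smul G s.1)
          mul_smul := fun g h s => Subtype.ext (mul_smul g h s.1)
          smul_zero := fun g => Subtype.ext (smul_zero g)
          smul_add := fun g s t => Subtype.ext (smul_add g s.1 t.1) }
      have hlt : Nat.card S < n := by
        rw [← hn]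
        refine lt_of_le_of_ne (Nat.card_le_card_of_injective _ Subtype.val_injective) fun e => hne ?_
        exact AddSubgroup.eq_top_of_card_eq S e
      have hcrS : ∀ X : AddSubgroup S, (∀ g : G, ∀ u ∈ X, g • u ∈ X) →
          ∃ Y : AddSubgroup S, (∀ g : G, ∀ u ∈ Y, g • u ∈ Y) ∧ X ⊓ Y = ⊥ ∧ X ⊔ Y = ⊤ := by
        intro X hX
        obtain ⟨Y, hY, hi, hs⟩ := hcr (X.map S.subtype) (by
          rintro g _ ⟨u, hu, rfl⟩; exact ⟨g • u, hX g u hu, rfl⟩)
        refine ⟨Y.comap S.subtype, fun g u hu => hY g u.1 hu, ?_, ?_⟩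
        · refine (AddSubgroup.eq_bot_iff_forall _).2 fun u hu => Subtype.ext ?_
          exact (AddSubgroup.eq_bot_iff_forall _).1 hi u.1 ⟨⟨u, hu.1, rfl⟩, hu.2⟩
        · refine (AddSubgroup.eq_top_iff' _).2 fun u => ?_
          obtain ⟨a, ⟨x, hx, rfl⟩, b, hb, e⟩ := AddSubgroup.mem_sup.1
            (show u.1 ∈ X.map S.subtype ⊔ Y by rw [hs]; exact AddSubgroup.mem_top _)
          have hbS : b ∈ S := by
            rw [show b = u.1 - S.subtype x from eq_sub_of_add_eq' e]
            exact S.sub_mem u.2 x.2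
          exact AddSubgroup.mem_sup.2 ⟨x, hx, ⟨b, hbS⟩, hb, Subtype.ext e⟩
      obtain ⟨T, hT⟩ := ih _ hlt S G hodd hcrS rfl
      exact ⟨fun i => (T i).1, fun i => (T i).2, fun g hg v hv =>
        congrArg Subtype.val (hT g (funext fun i => Subtype.ext (congrFun hg i)) ⟨v, hv⟩)⟩
    obtain ⟨T1, hT1, h1⟩ := key U hU hU1
    obtain ⟨T2, hT2, h2⟩ := key W hW hW0
    refine ⟨T1 + T2, fun g hg v => ?_⟩
    have huniq : ∀ a ∈ U, ∀ b ∈ W, g • (a + b) = a + b → g • a = a ∧ g • b = b := by
      intro a ha b hb e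
      have hd : g • a - a = b - g • b := by rw [smul_add] at e; linear_combination (norm := abel) e
      have hm : g • a - a = 0 := (AddSubgroup.eq_bot_iff_forall _).1 hinf _
        ⟨U.sub_mem (hU g a ha) ha, hd ▸ W.sub_mem hb (hW g b hb)⟩
      exact ⟨sub_eq_zero.1 hm, (sub_eq_zero.1 (hd.symm.trans hm)).symm⟩
    have hh := fun i => huniq _ (hT1 i) _ (hT2 i) (congrFun hg i)
    obtain ⟨a, ha, b, hb, rfl⟩ := AddSubgroup.mem_sup.1
      (show v ∈ U ⊔ W by rw [hsup]; exact AddSubgroup.mem_top v)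
    rw [smul_add, h1 g (funext fun i => (hh i).1) a ha, h2 g (funext fun i => (hh i).2) b hb]
  -- pass to the image
  let H := (MulAction.toPermHom G V).range
  letI : DistribMulAction H V := imgAction (A := G) (Ω := V)
  haveI : Group.IsSolvable H := img_solvable (A := G) (Ω := V)
  have hirrH : ∀ U : AddSubgroup V, (∀ g : H, ∀ u ∈ U, g • u ∈ U) → U = ⊥ ∨ U = ⊤ :=
    fun U hU => hirr U fun g u hu => hU ⟨_, g, rfl⟩ u hu
  have hoddH : Odd (Nat.card H) := hodd.of_dvd_nat (Subgroup.card_range_dvd _)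
  suffices hH : ∃ T : Fin 2 → V, GoodPair H T by
    obtain ⟨T, hT⟩ := hH
    exact ⟨T, fun g hg v => hT ⟨_, g, rfl⟩ hg v⟩
  by_cases hfield : ∀ B : Subgroup H, B.Normal → (∀ a ∈ B, ∀ b ∈ B, a * b = b * a) → IsField (ringOf V B)
  · exact primitive2 (V := V) (G := H) hoddH (fun h hh => Subtype.ext (Equiv.ext hh)) hfield
  push_neg at hfield
  obtain ⟨B, hB, hBc, hnf⟩ := hfield
  obtain ⟨ι, hι, act, E, i0, hidem, horth, hsum, heq, htr, hne, j, hj⟩ := exists_idempotents hirrH B hB hBc hnf
  -- coarsen to a primitive permutation action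
  have hst : MulAction.stabilizer H i0 ≠ ⊤ := fun h => by
    obtain ⟨g, hg⟩ := htr j
    have : g ∈ MulAction.stabilizer H i0 := h ▸ Subgroup.mem_top g
    exact hj (hg.symm.trans this)
  obtain ⟨M, hM, hle⟩ := (eq_top_or_exists_le_coatom (MulAction.stabilizer H i0)).resolve_left hst
  choose s hs using htr
  let π : ι → H ⧸ M := fun i => (s i : H ⧸ M)
  have hπ : ∀ (g : H) i, π (g • i) = g • π i := fun g i => by
    show ((s (g • i) : H) : H ⧸ M) = ((g * s i : H) : H ⧸ M)
    refine QuotientGroup.eq.2 (hle ?_)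
    rw [MulAction.mem_stabilizer_iff, mul_smul, inv_smul_eq_iff, hs, mul_smul, hs]
  haveI := Fintype.ofFinite (H ⧸ M)
  let E' : H ⧸ M → AddMonoid.End V := fun q => ∑ i ∈ Finset.univ.filter (fun i => π i = q), E i
  have hE' : ∀ q v, E' q v = ∑ i ∈ Finset.univ.filter (fun i => π i = q), E i v := fun q v =>
    map_sum (AddMonoidHom.mk' (fun f : AddMonoid.End V => f v) fun _ _ => rfl) _ _
  have hEE : ∀ q i v, E' q (E i v) = if π i = q then E i v else 0 := fun q i v => by
    rw [hE']
    split_ifs with h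
    · rw [Finset.sum_eq_single i (fun k _ hk => horth k i hk v) (fun hh => absurd (by simp [h]) hh), hidem]
    · exact Finset.sum_eq_zero fun k hk => horth k i (fun e => h (by rw [← e]; exact (Finset.mem_filter.1 hk).2)) v
  have hidem' : ∀ q v, E' q (E' q v) = E' q v := fun q v => by
    conv_lhs => rw [hE' q v, map_sum]
    rw [hE' q v]
    exact Finset.sum_congr rfl fun i hi => by rw [hEE, if_pos (Finset.mem_filter.1 hi).2]
  have horth' : ∀ q r, q ≠ r → ∀ v, E' q (E' r v) = 0 := fun q r hqr v => by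
    rw [hE' r v, map_sum]
    exact Finset.sum_eq_zero fun i hi => by
      rw [hEE, if_neg (fun h => hqr (h.symm.trans (Finset.mem_filter.1 hi).2))]
  have hsum' : ∀ v, ∑ q, E' q v = v := fun v => by
    simp only [hE']
    rw [Finset.sum_fiberwise]
    exact hsum v
  have heq' : ∀ (g : H) q v, g • E' q v = E' (g • q) (g • v) := fun g q v => by
    rw [hE', hE', Finset.smul_sum]
    refine Finset.sum_equiv (MulAction.toPerm g) (fun i => ?_) fun i _ => heq g i v
    simp [hπ]
  let q0 : H ⧸ M := ((1 : H) : H ⧸ M)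
  let S := MulAction.stabilizer H q0
  have hSM : S = M := MulAction.stabilizer_quotient M
  let V0 : AddSubgroup V := (E' q0).range
  have hV0 : ∀ z ∈ V0, E' q0 z = z := by rintro _ ⟨w, rfl⟩; exact hidem' q0 w
  have hS : ∀ h ∈ S, ∀ z ∈ V0, h • z ∈ V0 := fun h hh z hz => ⟨h • z, by
    have := heq' h q0 z
    rw [show h • q0 = q0 from hh, hV0 z hz] at this
    exact this.symm⟩
  letI : DistribMulAction S V0 :=
    { smul := fun h z => ⟨h.1 • z.1, hS h.1 h.2 z.1 z.2⟩
      one_smul := fun z => Subtype.ext (one_smul H z.1)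
      mul_smul := fun h k z => Subtype.ext (mul_smul h.1 k.1 z.1)
      smul_zero := fun h => Subtype.ext (smul_zero h.1)
      smul_add := fun h z w => Subtype.ext (smul_add h.1 z.1 w.1) }
  have hne' : ∀ i, ∃ v, E i v ≠ 0 := fun i => by
    by_contra h
    push_neg at h
    exact hne i (DFunLike.ext _ _ h)
  haveI : Nontrivial V0 := by
    obtain ⟨v, hv⟩ := hne' (i0)
    have hπ0 : π i0 = q0 := QuotientGroup.eq.2 (hle (by
      rw [MulAction.mem_stabilizer_iff, mul_one, inv_smul_eq_iff, hs]))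
    exact ⟨⟨E i0 v, E i0 v, (hEE q0 i0 v).trans (if_pos hπ0)⟩, 0, fun e => hv (congrArg Subtype.val e)⟩
  have hlt : Nat.card V0 < n := by
    rw [← hn]
    refine lt_of_le_of_ne (Nat.card_le_card_of_injective _ Subtype.val_injective) fun e => ?_
    obtain ⟨g, hg⟩ : ∃ g : H, g ∉ M := by
      by_contra h
      push_neg at h
      exact hM.1 ((Subgroup.eq_top_iff' M).2 h)
    obtain ⟨v, hv⟩ := hne' (g • i0)
    apply hv
    have hmem : E (g • i0) v ∈ V0 := AddSubgroup.eq_top_of_card_eq V0 e ▸ AddSubgroup.mem_top _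
    rw [← hV0 _ hmem, hEE, if_neg]
    intro h
    apply hg
    rw [hπ, ← hSM] at *
    have hπ0 : π i0 = q0 := QuotientGroup.eq.2 (hle (by
      rw [MulAction.mem_stabilizer_iff, mul_one, inv_smul_eq_iff, hs]))
    rw [hπ0] at h
    exact h
  -- the component is irreducible
  have hirr0 : ∀ X : AddSubgroup V0, (∀ g : S, ∀ u ∈ X, g • u ∈ X) → X = ⊥ ∨ X = ⊤ := by
    intro X hX
    let U : AddSubgroup V :=
      { carrier := {v | ∀ g : H, (⟨E' q0 (g • v), g • v, rfl⟩ : V0) ∈ X}
        add_mem' := fun {a b} ha hb g => by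
          have : (⟨E' q0 (g • (a + b)), g • (a + b), rfl⟩ : V0) =
              ⟨E' q0 (g • a), g • a, rfl⟩ + ⟨E' q0 (g • b), g • b, rfl⟩ :=
            Subtype.ext (by show E' q0 (g • (a + b)) = _ + _; rw [smul_add, map_add])
          rw [this]; exact X.add_mem (ha g) (hb g)
        zero_mem' := fun g => by
          have : (⟨E' q0 (g • (0 : V)), g • (0 : V), rfl⟩ : V0) = 0 :=
            Subtype.ext (by show E' q0 (g • (0 : V)) = 0; rw [smul_zero, map_zero])
          rw [this]; exact X.zero_mem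
        neg_mem' := fun {a} ha g => by
          have : (⟨E' q0 (g • -a), g • -a, rfl⟩ : V0) = -⟨E' q0 (g • a), g • a, rfl⟩ :=
            Subtype.ext (by show E' q0 (g • -a) = -_; rw [smul_neg, map_neg])
          rw [this]; exact X.neg_mem (ha g) }
    have hUinv : ∀ g : H, ∀ u ∈ U, g • u ∈ U := fun g u hu k => by
      have := hu (k * g)
      simp only [mul_smul] at this
      exact this
    rcases hirrH U hUinv with h | h
    · refine Or.inl ((AddSubgroup.eq_bot_iff_forall X).2 fun u hu => Subtype.ext ?_)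
      refine (AddSubgroup.eq_bot_iff_forall U).1 h u.1 fun g => ?_
      by_cases hg : g • q0 = q0
      · have := hX ⟨g, hg⟩ u hu
        convert this using 1
        exact Subtype.ext (hV0 _ (hS g hg u.1 u.2))
      · convert X.zero_mem using 1
        refine Subtype.ext ?_
        show E' q0 (g • u.1) = 0
        have := heq' g q0 u.1
        rw [hV0 u.1 u.2] at this
        rw [this]
        exact horth' q0 (g • q0) (Ne.symm hg) _
    · refine Or.inr ((AddSubgroup.eq_top_iff' X).2 fun u => ?_)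
      have := (h ▸ AddSubgroup.mem_top u.1 : u.1 ∈ U) 1
      convert this using 1
      exact Subtype.ext (by show u.1 = E' q0 ((1 : H) • u.1); rw [one_smul, hV0 u.1 u.2])
  obtain ⟨T0, hT0⟩ := ih _ hlt V0 S (hoddH.of_dvd_nat (Subgroup.card_subgroup_dvd_card S)) (fun X hX => by
    rcases hirr0 X hX with rfl | rfl
    · exact ⟨⊤, fun _ _ _ => AddSubgroup.mem_top _, inf_top_eq _, sup_top_eq _⟩
    · exact ⟨⊥, fun g u hu => by rw [AddSubgroup.mem_bot] at hu ⊢; rw [hu, smul_zero], inf_bot_eq _, sup_bot_eq _⟩) rfl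
  obtain ⟨T, hTgood, hTinj⟩ := two_orbits (hoddH.of_dvd_nat (Subgroup.card_subgroup_dvd_card S)) hT0
  -- a colouring
  obtain ⟨c, hc⟩ : HasColour 2 H (H ⧸ M) := by
    haveI : Nontrivial (H ⧸ M) := by
      by_contra h
      rw [not_nontrivial_iff_subsingleton] at h
      exact hM.1 (QuotientGroup.subgroup_eq_top_of_subsingleton M h)
    haveI : MulAction.IsPreprimitive H (H ⧸ M) :=
      (MulAction.isCoatom_stabilizer_iff_preprimitive H q0).1 (by rw [MulAction.stabilizer_quotient]; exact hM)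
    let R := (MulAction.toPermHom H (H ⧸ M)).range
    haveI : Group.IsSolvable R :=
      Group.isSolvable_of_surjective (MulAction.toPermHom H (H ⧸ M)).rangeRestrict_surjective
    have hR : MulAction.IsPreprimitive R (H ⧸ M) :=
      MulAction.IsPreprimitive.of_surjective (φ := (MulAction.toPermHom H (H ⧸ M)).rangeRestrict)
        (f := { toFun := id, map_smul' := fun g x => rfl }) Function.surjective_id
    obtain ⟨f, hf⟩ := colour_two (G := R) hR (hoddH.of_dvd_nat (Subgroup.card_range_dvd _))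
    exact ⟨f, fun g hg x => hf ((MulAction.toPermHom H (H ⧸ M)).rangeRestrict g) hg x⟩
  let c' : H ⧸ M → Fin 2 := c
  have ht : ∀ q : H ⧸ M, (Quotient.out q : H) • q0 = q := fun q => by
    show ((Quotient.out q * 1 : H) : H ⧸ M) = q
    rw [mul_one]; exact QuotientGroup.out_eq' q
  let t : H ⧸ M → H := Quotient.out
  refine ⟨fun k => ∑ q, t q • (T (c' q) k).1, fun g hg => ?_⟩
  have hcomp : ∀ k q, g • t q • (T (c' q) k).1 = t (g • q) • (T (c' (g • q)) k).1 := by
    intro k q
    have hin : ∀ r, E' r (t r • (T (c' r) k).1) = t r • (T (c' r) k).1 := fun r => by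
      rw [show E' r = E' (t r • q0) by rw [ht], ← heq', hV0 _ (T (c' r) k).2]
    have hproj : ∀ r, E' r (∑ l, t l • (T (c' l) k).1) = t r • (T (c' r) k).1 := fun r => by
      rw [map_sum, Finset.sum_eq_single r (fun l _ hl => by rw [← hin l, horth' r l (Ne.symm hl)])
        (fun h => absurd (Finset.mem_univ r) h), hin]
    have := heq' g q (∑ l, t l • (T (c' l) k).1)
    rwa [show g • (∑ l, t l • (T (c' l) k).1) = _ from congrFun hg k, hproj, hproj] at this
  have hmem : ∀ q, (t (g • q))⁻¹ * g * t q ∈ S := fun q => by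
    show ((t (g • q))⁻¹ * g * t q) • q0 = q0
    rw [mul_smul, mul_smul, ht, inv_smul_eq_iff, ht]
  have hmap : ∀ q, (⟨_, hmem q⟩ : S) • T (c' q) = T (c' (g • q)) := fun q => funext fun k => Subtype.ext (by
    show ((t (g • q))⁻¹ * g * t q) • (T (c' q) k).1 = _
    rw [mul_smul, mul_smul, hcomp, inv_smul_smul])
  have hid : ∀ q, g • q = q := hc g fun q => ((hTinj _ _ _ (hmap q)).symm : c' (g • q) = c' q)
  intro v
  have hone : ∀ q, g • E' q v = E' q v := by
    intro q
    have hw : (t q)⁻¹ • E' q v ∈ V0 := ⟨(t q)⁻¹ • v, by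
      rw [heq', show (t q)⁻¹ • q = q0 by rw [inv_smul_eq_iff, ht]]; rfl⟩
    have hmq : (⟨_, hmem q⟩ : S) • T (c' q) = T (c' q) :=
      (hmap q).trans (congrArg (fun r => T (c' r)) (hid q))
    have h1 : ((t (g • q))⁻¹ * g * t q) • ((t q)⁻¹ • E' q v) = (t q)⁻¹ • E' q v :=
      congrArg Subtype.val (hTgood _ _ hmq ⟨_, hw⟩)
    rw [hid, mul_smul, mul_smul, smul_inv_smul] at h1
    exact MulAction.injective (t q)⁻¹ h1
  rw [← hsum' v, Finset.smul_sum]
  exact Finset.sum_congr rfl fun q _ => hone q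

/-- Two vectors, for groups in any universe. -/
theorem exists_pair (V : Type v) [AddCommGroup V] [Finite V] (G : Type u) [Group G] [Finite G]
    [Group.IsSolvable G] [DistribMulAction G V] (hodd : Odd (Nat.card G))
    (hcr : ∀ U : AddSubgroup V, (∀ g : G, ∀ u ∈ U, g • u ∈ U) →
      ∃ W : AddSubgroup V, (∀ g : G, ∀ u ∈ W, g • u ∈ W) ∧ U ⊓ W = ⊥ ∧ U ⊔ W = ⊤) :
    ∃ x y : V, ∀ g : G, g • x = x → g • y = y → ∀ v : V, g • v = v := by
  letI : DistribMulAction (MulAction.toPermHom G V).range V := imgAction (A := G) (Ω := V)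
  haveI : Group.IsSolvable (MulAction.toPermHom G V).range := img_solvable (A := G) (Ω := V)
  obtain ⟨T, hT⟩ := exists_pair_same _ V (MulAction.toPermHom G V).range
    (hodd.of_dvd_nat (Subgroup.card_range_dvd _)) (fun U hU => by
    obtain ⟨W, hW, h⟩ := hcr U fun g u hu => hU ⟨_, g, rfl⟩ u hu
    exact ⟨W, by rintro ⟨_, g, rfl⟩ u hu; exact hW g u hu, h⟩) rfl
  refine ⟨T 0, T 1, fun g hx hy v => hT ⟨_, g, rfl⟩ (funext fun i => ?_) v⟩
  fin_cases i
  exacts [hx, hy]

end Cfsg.Agent.BaseOdd
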